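import Mathlib
import Cfsg.Agent.Lib.Helper10.BGL.Defs
import Cfsg.Agent.Lib.Helper10.BGL.FldDefs
import Cfsg.Agent.Lib.helper8.ChevBaseAll
import Cfsg.Agent.Lib.helper8.ChevUnits

/-!
# Project BGL, blocks PC / PA / SE (designer helper25): definitions

`xg D hD r t` : the root element `x_r(t)` as a unit; `hg D hD r t` : `h_r(t)`; `iBot`, `iTop` : the coordinates of `e_{-ρ}`, `e_ρ`
(`ρ` = highest root = index `D.nroots - 1`, `-ρ` = index `0`); `sx t`, `sy t` : the elementary matrices of `SL₂` (from `Helper10.BGL.FldDefs`), `sd t ht` the diagonal one;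
`ReflStable D P` : the set of roots `P` is stable under the simple reflections; `isLong D r` : `r` is a long root
(explicit lists for `G₂`, `B₂`, `F₄`); `bglBeta D = D.nroots - 2` : the second highest root `β`, `bglB0 D` : the simple root with
`β + b₀ = ρ`; `bglOrth D` : a positive root orthogonal to `ρ` (`ρ ± b` are not roots).
-/

set_option autoImplicit false

namespace Cfsg.Agent.Lib.Helper10.BGL

open Cfsg.Lie Cfsg.Lie.ChevalleyDatum Cfsg.Agent.Lib.helper8

universe u

/-- `D` is one of the seven data of the project -/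
abbrev Seven (D : ChevalleyDatum) : Prop :=
  D ∈ [chevG2, chevB2, chevD4, chevF4, chevE6, chevE7, chevE8]

variable {K : Type u} [Field K]

/-- the root element `x_r(t)` as a unit -/
def xg (D : ChevalleyDatum) (hD : Seven D) (r : ℕ) (t : K) : GL D.Idx K :=
  h8xU D (h8base_all.{u} D hD) r t

theorem xg_val (D : ChevalleyDatum) (hD : Seven D) (r : ℕ) (t : K) :
    ((xg D hD r t : GL D.Idx K) : Matrix D.Idx D.Idx K) = D.x K r t := rfl

/-- the torus element `h_r(t)` as a unit -/
def hg (D : ChevalleyDatum) (hD : Seven D) (r : ℕ) (t : K) : GL D.Idx K :=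
  h8hU D (h8base_all.{u} D hD) r t

theorem hg_val (D : ChevalleyDatum) (hD : Seven D) (r : ℕ) (t : K) :
    ((hg D hD r t : GL D.Idx K) : Matrix D.Idx D.Idx K) = D.hMat K r t :=
  h8hU_val D (h8base_all.{u} D hD) r t

/-- the coordinate of `e_{-ρ}` -/
def iBot (D : ChevalleyDatum) (h0 : 0 < D.nroots) : D.Idx := Sum.inr ⟨0, h0⟩

/-- the coordinate of `e_ρ` -/
def iTop (D : ChevalleyDatum) (h0 : 0 < D.nroots) : D.Idx := Sum.inr ⟨D.nroots - 1, by omega⟩

theorem topEntry_eq (D : ChevalleyDatum) (h0 : 0 < D.nroots) (g : Matrix D.Idx D.Idx K) :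
    topEntry D g = g (iBot D h0) (iTop D h0) := by
  unfold topEntry
  rw [dif_pos h0]
  rfl

-- `sx t`, `sy t` (the elementary matrices of `SL₂`) are those of `Helper10.BGL.FldDefs`.

/-- the diagonal matrix `diag(t, t⁻¹)` of `SL₂` -/
def sd (t : K) (ht : t ≠ 0) : Matrix.SpecialLinearGroup (Fin 2) K :=
  ⟨!![t, 0; 0, t⁻¹], by simp [Matrix.det_fin_two, ht]⟩

/-- the set of roots `P` is stable under the simple reflections -/
def ReflStable (D : ChevalleyDatum) (P : ℕ → Prop) : Prop :=
  ∀ i < D.rank, ∀ r < D.nroots, P r → P (D.reflectRoot i r)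

/-- the long roots (all roots in the simply laced types) -/
def isLong (D : ChevalleyDatum) (r : ℕ) : Prop :=
  if D.nroots = 12 then r ∈ [0, 1, 5, 6, 10, 11]
  else if D.nroots = 8 then r ∈ [0, 3, 4, 7]
  else if D.nroots = 48 then
    r ∈ [0, 1, 2, 4, 5, 6, 15, 16, 17, 21, 22, 23, 24, 25, 26, 30, 31, 32, 41, 42, 43, 45, 46, 47]
  else True

instance (D : ChevalleyDatum) (r : ℕ) : Decidable (isLong D r) := by
  unfold isLong
  infer_instance

/-- the second highest root `β` -/
def bglBeta (D : ChevalleyDatum) : ℕ := D.nroots - 2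

/-- the simple root `b₀` with `β + b₀ = ρ` -/
def bglB0 (D : ChevalleyDatum) : ℕ :=
  (D.posRoots.find? fun s => !(D.commTerms (D.nroots - 2) s).isEmpty).getD 0

/-- the structure constant `N` with `[x_{b₀}(v), x_β(t)] = x_ρ(- N t v)` -/
def bglN (D : ChevalleyDatum) : ℤ :=
  ((D.commTerms (D.nroots - 2) (bglB0 D)).head?.map fun c => c.2.1).getD 0

/-- a positive root `b` orthogonal to `ρ`, with `ρ ± b` not roots -/
def bglOrth (D : ChevalleyDatum) : ℕ :=
  (D.posRoots.find? fun b => decide (b ≠ D.nroots - 1) && (D.commTerms (D.nroots - 1) b).isEmpty &&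
    (D.commTerms 0 b).isEmpty).getD 0

end Cfsg.Agent.Lib.Helper10.BGL
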